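import Mathlib.RingTheory.LaurentSeries
import Mathlib.RingTheory.PowerSeries.Basic
import Mathlib.RingTheory.Localization.BaseChange
import Mathlib.RingTheory.AdicCompletion.Noetherian
import Mathlib.RingTheory.AdicCompletion.Algebra
import Mathlib.RingTheory.AdicCompletion.Functoriality
import Mathlib.RingTheory.AdicCompletion.Exactness
import Mathlib.RingTheory.AdicCompletion.AsTensorProduct
import Mathlib.LinearAlgebra.TensorProduct.Basis
import Mathlib.RingTheory.Localization.AtPrime.Basic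
import Mathlib.RingTheory.KrullDimension.NonZeroDivisors
import Mathlib.RingTheory.TensorProduct.Basic
import Mathlib.RingTheory.TensorProduct.Maps

/-!
# Algebra for `shp_of_family`

* `ev w : D ⊗_P W → (F ⊗_P D) ⊗_F C` for `w : W → C`;
* `exists_ne_zero`: joint injectivity of `F ⊗ (K ⊗ A)[[X]] → F ⊗ (K ⊗ A_s)[[X]]`;
* the quotient of a complete local ring by a primary ideal of coheight one.
-/

set_option autoImplicit false
set_option linter.unusedSectionVars false
set_option linter.style.haveILetI false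
universe u
open TensorProduct IsLocalRing
open scoped PowerSeries LaurentSeries

namespace K512.ShpAlg

section ev

variable {P : Type u} [CommRing P] {D W T : Type u} [CommRing D] [CommRing W] [CommRing T] [Algebra P D] [Algebra P W]

/-- The map out of a tensor product of algebras given by two ring maps. -/
noncomputable def tlift (a : D →+* T) (b : W →+* T) (h : ∀ p : P, a (algebraMap P D p) = b (algebraMap P W p)) :
    D ⊗[P] W →+* T :=
  letI := (a.comp (algebraMap P D)).toAlgebra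
  (Algebra.TensorProduct.lift (S := P) (⟨a, fun _ => rfl⟩ : D →ₐ[P] T) (⟨b, fun r => (h r).symm⟩ : W →ₐ[P] T)
    (fun _ _ => Commute.all _ _)).toRingHom

theorem tlift_tmul (a : D →+* T) (b : W →+* T) (h : ∀ p : P, a (algebraMap P D p) = b (algebraMap P W p)) (d : D) (w : W) :
    tlift a b h (d ⊗ₜ w) = a d * b w := by
  let _ := (a.comp (algebraMap P D)).toAlgebra
  exact Algebra.TensorProduct.lift_tmul (S := P) (⟨a, fun _ => rfl⟩ : D →ₐ[P] T) (⟨b, fun r => (h r).symm⟩ : W →ₐ[P] T)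
    (fun _ _ => Commute.all _ _) d w

variable {F : Type u} [Field F] [Algebra P F] {C : Type u} [CommRing C] [Algebra F C]

/-- `D ⊗_P W → (F ⊗_P D) ⊗_F C`. -/
noncomputable def ev (w : W →+* C) (hw : ∀ p : P, w (algebraMap P W p) = algebraMap F C (algebraMap P F p)) :
    D ⊗[P] W →+* (F ⊗[P] D) ⊗[F] C :=
  tlift ((Algebra.TensorProduct.includeLeftRingHom : (F ⊗[P] D) →+* (F ⊗[P] D) ⊗[F] C).comp
      (Algebra.TensorProduct.includeRight : D →ₐ[P] F ⊗[P] D).toRingHom)
    ((Algebra.TensorProduct.includeRight : C →ₐ[F] (F ⊗[P] D) ⊗[F] C).toRingHom.comp w) (by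
      intro p
      change ((1 : F) ⊗ₜ[P] (algebraMap P D p)) ⊗ₜ[F] (1 : C) = (1 : F ⊗[P] D) ⊗ₜ[F] (w (algebraMap P W p))
      rw [hw, Algebra.algebraMap_eq_smul_one (R := F) (A := C), TensorProduct.tmul_smul, TensorProduct.smul_tmul']
      congr 1
      rw [Algebra.TensorProduct.one_def, TensorProduct.smul_tmul', smul_eq_mul, mul_one,
        Algebra.algebraMap_eq_smul_one (R := P) (A := D), TensorProduct.tmul_smul, TensorProduct.smul_tmul',
        Algebra.algebraMap_eq_smul_one (R := P) (A := F)])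

theorem ev_tmul (w : W →+* C) (hw : ∀ p : P, w (algebraMap P W p) = algebraMap F C (algebraMap P F p)) (d : D) (x : W) :
    ev w hw (d ⊗ₜ x) = ((1 : F) ⊗ₜ[P] d) ⊗ₜ[F] w x := by
  rw [ev, tlift_tmul]
  change (((1 : F) ⊗ₜ[P] d) ⊗ₜ[F] (1 : C)) * ((1 : F ⊗[P] D) ⊗ₜ[F] w x) = _
  rw [Algebra.TensorProduct.tmul_mul_tmul, one_mul, mul_one]

theorem map_ev {C' : Type u} [CommRing C'] [Algebra F C'] (φ : C →ₐ[F] C') (w : W →+* C)
    (hw : ∀ p : P, w (algebraMap P W p) = algebraMap F C (algebraMap P F p))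
    (w' : W →+* C') (hw' : ∀ p : P, w' (algebraMap P W p) = algebraMap F C' (algebraMap P F p))
    (h : ∀ x, φ (w x) = w' x) (z : D ⊗[P] W) :
    Algebra.TensorProduct.map (AlgHom.id F (F ⊗[P] D)) φ (ev w hw z) = ev w' hw' z := by
  induction z using TensorProduct.induction_on with
  | zero => rw [map_zero, map_zero, map_zero]
  | tmul d x =>
    rw [ev_tmul, ev_tmul, Algebra.TensorProduct.map_tmul, h]
    rfl
  | add a b ha hb => rw [map_add, map_add, ha, hb, map_add]

theorem ev_map {W' : Type u} [CommRing W'] [Algebra P W'] (v : W →ₐ[P] W') (w : W' →+* C)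
    (hw : ∀ p : P, w (algebraMap P W' p) = algebraMap F C (algebraMap P F p))
    (w' : W →+* C) (hw' : ∀ p : P, w' (algebraMap P W p) = algebraMap F C (algebraMap P F p))
    (h : ∀ x, w (v x) = w' x) (z : D ⊗[P] W) :
    ev w hw (Algebra.TensorProduct.map (AlgHom.id D D) v z) = ev w' hw' z := by
  induction z using TensorProduct.induction_on with
  | zero => rw [map_zero, map_zero, map_zero]
  | tmul d x =>
    rw [Algebra.TensorProduct.map_tmul, ev_tmul, ev_tmul, h]
    rfl
  | add a b ha hb => rw [map_add, map_add, ha, hb, map_add]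

end ev

section quot

/-- A quotient of a complete Noetherian local ring is complete. -/
theorem isAdicComplete_quotient (A : Type u) [CommRing A] [IsNoetherianRing A] [IsLocalRing A]
    [IsAdicComplete (maximalIdeal A) A] (p : Ideal A) [IsLocalRing (A ⧸ p)] :
    IsAdicComplete (maximalIdeal (A ⧸ p)) (A ⧸ p) := by
  have h1 : IsAdicComplete (maximalIdeal A) (A ⧸ p) := by
    rw [← AdicCompletion.of_bijective_iff]
    constructor
    · exact AdicCompletion.of_injective_iff.mpr inferInstance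
    · have hs : Function.Surjective (AdicCompletion.map (maximalIdeal A)
          (Submodule.mkQ p)) :=
        AdicCompletion.map_surjective _ (Submodule.mkQ_surjective p)
      intro y
      obtain ⟨x, rfl⟩ := hs y
      obtain ⟨z, rfl⟩ := (AdicCompletion.of_bijective (maximalIdeal A) A).2 x
      refine ⟨Submodule.mkQ p z, ?_⟩
      rw [AdicCompletion.map_of]
  have h2 : (maximalIdeal A).map (algebraMap A (A ⧸ p)) =
      maximalIdeal (A ⧸ p) :=
    IsLocalRing.map_maximalIdeal_of_surjective _ Ideal.Quotient.mk_surjective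
  rw [← h2, IsAdicComplete.map_algebraMap_iff]
  exact h1

variable {B : Type u} [CommRing B] [IsLocalRing B] (Q : Ideal B) [Q.IsPrime]

/-- The kernel of `B → B_Q / Q ^ l`. -/
noncomputable def symb (l : ℕ) : Ideal B :=
  RingHom.ker ((Ideal.Quotient.mk (maximalIdeal (Localization.AtPrime Q) ^ l)).comp (algebraMap B (Localization.AtPrime Q)))

theorem symb_le (l : ℕ) (hl : l ≠ 0) : symb Q l ≤ Q := by
  intro b hb
  rw [symb, RingHom.mem_ker, RingHom.comp_apply, Ideal.Quotient.eq_zero_iff_mem] at hb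
  have h1 : algebraMap B (Localization.AtPrime Q) b ∈ maximalIdeal (Localization.AtPrime Q) := Ideal.pow_le_self hl hb
  exact (IsLocalization.AtPrime.to_map_mem_maximal_iff (Localization.AtPrime Q) Q b).1 h1

theorem pow_le_symb (l : ℕ) : Q ^ l ≤ symb Q l := by
  intro b hb
  rw [symb, RingHom.mem_ker, RingHom.comp_apply, Ideal.Quotient.eq_zero_iff_mem,
    ← Localization.AtPrime.map_eq_maximalIdeal, ← Ideal.map_pow]
  exact Ideal.mem_map_of_mem _ hb

theorem mem_symb_of_mul (l : ℕ) (x b : B) (hx : x ∉ Q) (h : x * b ∈ symb Q l) : b ∈ symb Q l := by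
  rw [symb, RingHom.mem_ker, RingHom.comp_apply, Ideal.Quotient.eq_zero_iff_mem] at h ⊢
  have hu : IsUnit (algebraMap B (Localization.AtPrime Q) x) :=
    IsLocalization.map_units (Localization.AtPrime Q) (⟨x, hx⟩ : Q.primeCompl)
  rw [map_mul] at h
  obtain ⟨u, hu⟩ := hu
  rw [← hu] at h
  have := Ideal.mul_mem_left _ (↑u⁻¹ : Localization.AtPrime Q) h
  rwa [Units.inv_mul_cancel_left] at this

/-- `m_D` is the radical of `(x)`. -/
theorem maximalIdeal_le_radical (hQ : ∀ (Q' : Ideal B) [Q'.IsPrime], Q < Q' → Q' = maximalIdeal B) (l : ℕ)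
    [IsLocalRing (B ⧸ symb Q l)] (x : B) (hx : x ∉ Q) :
    maximalIdeal (B ⧸ symb Q l) ≤ (Ideal.span {Ideal.Quotient.mk (symb Q l) x}).radical := by
  rw [Ideal.radical_eq_sInf]
  refine le_sInf fun P' hP' => ?_
  obtain ⟨h1, h2⟩ := hP'
  have h3 : (P'.comap (Ideal.Quotient.mk (symb Q l))).IsPrime := Ideal.comap_isPrime _ _
  have h4 : symb Q l ≤ P'.comap (Ideal.Quotient.mk (symb Q l)) := by
    intro b hb
    rw [Ideal.mem_comap, Ideal.Quotient.eq_zero_iff_mem.2 hb]
    exact zero_mem _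
  have h5 : Q ≤ P'.comap (Ideal.Quotient.mk (symb Q l)) := fun b hb =>
    h3.mem_of_pow_mem l (h4 (pow_le_symb Q l (Ideal.pow_mem_pow hb l)))
  have h6 : x ∈ P'.comap (Ideal.Quotient.mk (symb Q l)) := h1 (Ideal.mem_span_singleton_self _)
  have h7 := hQ _ (lt_of_le_of_ne h5 fun e => hx (e ▸ h6))
  intro y hy
  obtain ⟨b, rfl⟩ := Ideal.Quotient.mk_surjective y
  have h8 : b ∈ maximalIdeal B := fun hu => hy (hu.map _)
  rw [← h7] at h8
  exact h8

end quot

section series

variable {k : Type u} [Field k] (K : Type u) [Field K] [Algebra k K]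

/-- `(K ⊗ A)[[X]] → (K ⊗ A')[[X]]` -/
noncomputable def vmap {A A' : Type u} [CommRing A] [Algebra k A] [CommRing A'] [Algebra k A'] (g : A →ₐ[k] A') :
    (K ⊗[k] A)⟦X⟧ →ₐ[K⟦X⟧] (K ⊗[k] A')⟦X⟧ :=
  AlgHom.mk (PowerSeries.map (Algebra.TensorProduct.map (AlgHom.id K K) g).toRingHom) (by
      intro a
      ext n
      simp [PowerSeries.algebraMap_apply''] )

theorem eq_zero_of_forall {A : Type u} [CommRing A] [Algebra k A] {S : Type u} {A' : S → Type u} [∀ s, CommRing (A' s)]
    [∀ s, Algebra k (A' s)] (e : ∀ s, A →ₐ[k] A' s) (he : ∀ a, (∀ s, e s a = 0) → a = 0) (z : K ⊗[k] A)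
    (hz : ∀ s, Algebra.TensorProduct.map (AlgHom.id K K) (e s) z = 0) : z = 0 := by
  classical
  let b := Module.Basis.ofVectorSpace k K
  have key : ∀ (s : S) (z : K ⊗[k] A) (i), e s ((TensorProduct.equivFinsuppOfBasisLeft b) z i) =
      (TensorProduct.equivFinsuppOfBasisLeft b) (Algebra.TensorProduct.map (AlgHom.id K K) (e s) z) i := by
    intro s z i
    induction z using TensorProduct.induction_on with
    | zero => simp
    | tmul a x =>
      rw [Algebra.TensorProduct.map_tmul, TensorProduct.equivFinsuppOfBasisLeft_apply_tmul_apply,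
        TensorProduct.equivFinsuppOfBasisLeft_apply_tmul_apply, map_smul]
      rfl
    | add x y hx hy => rw [map_add, Finsupp.add_apply, map_add, hx, hy, map_add, map_add, Finsupp.add_apply]
  apply (TensorProduct.equivFinsuppOfBasisLeft b).injective
  rw [map_zero]
  ext i
  refine he _ fun s => ?_
  rw [key, hz, map_zero]
  rfl

theorem coeff_vmap {A A' : Type u} [CommRing A] [Algebra k A] [CommRing A'] [Algebra k A'] (g : A →ₐ[k] A')
    (w : (K ⊗[k] A)⟦X⟧) (n : ℕ) : PowerSeries.coeff n (vmap K g w) =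
      Algebra.TensorProduct.map (AlgHom.id K K) g (PowerSeries.coeff n w) := by
  rfl

theorem X_pow_smul_eq_zero {A : Type u} [CommRing A] [Algebra k A] (w : (K ⊗[k] A)⟦X⟧) (n : ℕ)
    (h : (PowerSeries.X : K⟦X⟧) ^ n • w = 0) : w = 0 := by
  have e : (PowerSeries.X : K⟦X⟧) ^ n • w = (PowerSeries.X : (K ⊗[k] A)⟦X⟧) ^ n * w := by
    rw [Algebra.smul_def, map_pow, PowerSeries.algebraMap_apply'', PowerSeries.map_X]
  rw [e] at h
  ext m
  have h1 := congrArg (PowerSeries.coeff (m + n)) h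
  rwa [PowerSeries.coeff_X_pow_mul] at h1

variable {F : Type u} [Field F] [Algebra K⟦X⟧ F] [IsLocalization (Submonoid.powers (PowerSeries.X : K⟦X⟧)) F]

theorem exists_ne_zero {A : Type u} [CommRing A] [Algebra k A] {S : Type u} {A' : S → Type u} [∀ s, CommRing (A' s)]
    [∀ s, Algebra k (A' s)] (e : ∀ s, A →ₐ[k] A' s) (he : ∀ a, (∀ s, e s a = 0) → a = 0)
    (y : F ⊗[K⟦X⟧] (K ⊗[k] A)⟦X⟧) (hy : y ≠ 0) :
    ∃ s, Algebra.TensorProduct.map (AlgHom.id F F) (vmap K (e s)) y ≠ 0 := by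
  by_contra hcon
  push Not at hcon
  apply hy
  obtain ⟨⟨w, ⟨_, n, rfl⟩⟩, hw⟩ := IsLocalizedModule.surj (Submonoid.powers (PowerSeries.X : K⟦X⟧))
    (TensorProduct.mk K⟦X⟧ F (K ⊗[k] A)⟦X⟧ 1) y
  have hw1 : (PowerSeries.X : K⟦X⟧) ^ n • y = (1 : F) ⊗ₜ[K⟦X⟧] w := hw
  have hw2 : w = 0 := by
    ext m
    refine eq_zero_of_forall K e he _ fun s => ?_
    rw [← coeff_vmap]
    have h1 : (1 : F) ⊗ₜ[K⟦X⟧] (vmap K (e s) w) = 0 := by
      have h2 : Algebra.TensorProduct.map (AlgHom.id F F) (vmap K (e s)) ((PowerSeries.X : K⟦X⟧) ^ n • y) = 0 := by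
        rw [← algebraMap_smul F ((PowerSeries.X : K⟦X⟧) ^ n) y, map_smul, hcon s, smul_zero]
      rw [hw1, Algebra.TensorProduct.map_tmul] at h2
      exact h2
    have h3 : (TensorProduct.mk K⟦X⟧ F (K ⊗[k] A' s)⟦X⟧ 1) (vmap K (e s) w) =
        (TensorProduct.mk K⟦X⟧ F (K ⊗[k] A' s)⟦X⟧ 1) 0 := by
      rw [map_zero]
      exact h1
    obtain ⟨⟨_, m', rfl⟩, h4⟩ := (IsLocalizedModule.eq_iff_exists (Submonoid.powers (PowerSeries.X : K⟦X⟧))
      (TensorProduct.mk K⟦X⟧ F (K ⊗[k] A' s)⟦X⟧ 1)).1 h3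
    have h5 : vmap K (e s) w = 0 := X_pow_smul_eq_zero K _ m' (by
      have : (PowerSeries.X : K⟦X⟧) ^ m' • vmap K (e s) w = (PowerSeries.X : K⟦X⟧) ^ m' • (0 : (K ⊗[k] A' s)⟦X⟧) := h4
      rw [this, smul_zero])
    rw [h5, map_zero]
  rw [hw2, TensorProduct.tmul_zero] at hw1
  have hu := IsLocalization.map_units F (⟨(PowerSeries.X : K⟦X⟧) ^ n, n, rfl⟩ : Submonoid.powers (PowerSeries.X : K⟦X⟧))
  obtain ⟨u, hu⟩ := hu
  have h6 : (u : F) • y = 0 := by
    rw [hu, algebraMap_smul]
    exact hw1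
  have h7 := congrArg (fun t => (↑u⁻¹ : F) • t) h6
  simpa [smul_smul] using h7

end series

end K512.ShpAlg
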