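import Groth.Agent.PicLoc.K639.PowD
import Groth.Agent.PicLoc.K512.ShpAlg

/-!
# Thickened primes of coheight one in a complete local ring (job 552, node CL of `S12351`)
-/

set_option autoImplicit false
set_option linter.style.haveILetI false
universe u
open TensorProduct IsLocalRing
open scoped PowerSeries

namespace K512.ShpPrim

open K512.ShpAlg

theorem mk_mem {B : Type u} [CommRing B] [IsLocalRing B] (I : Ideal B) [IsLocalRing (B ⧸ I)] {b : B}
    (hb : b ∈ maximalIdeal B) : Ideal.Quotient.mk I b ∈ maximalIdeal (B ⧸ I) := by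
  have h := IsLocalRing.map_maximalIdeal_of_surjective (Ideal.Quotient.mk I) Ideal.Quotient.mk_surjective
  rw [← h]
  exact Ideal.mem_map_of_mem _ hb

theorem exists_D {B : Type u} [CommRing B] [IsNoetherianRing B] [IsLocalRing B] [IsAdicComplete (maximalIdeal B) B]
    {R : Type u} [CommRing R] [IsLocalRing R] (i : R →+* B) (hi : maximalIdeal B = (maximalIdeal R).map i)
    {K : Type u} [Field K] (j : K →+* B) (hj : Function.Surjective (fun a => residue B (j a)))
    (Q : Ideal B) [Q.IsPrime] (hQ : Q ≠ maximalIdeal B)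
    (hQ' : ∀ (Q' : Ideal B) [Q'.IsPrime], Q < Q' → Q' = maximalIdeal B) (l : ℕ) (hl : l ≠ 0) :
    ∃ (D : Type u) (_ : CommRing D) (_ : Algebra K⟦X⟧ D) (_ : Module.Finite K⟦X⟧ D) (_ : Module.Free K⟦X⟧ D) (ψ : B →+* D),
      (∀ a, ψ (j a) = algebraMap K⟦X⟧ D (PowerSeries.C a)) ∧
      (∃ N : ℕ, ∀ r ∈ maximalIdeal R ^ N, ∃ d : D, ψ (i r) = algebraMap K⟦X⟧ D PowerSeries.X * d) ∧
      (∃ r ∈ maximalIdeal R, ψ (i r) = algebraMap K⟦X⟧ D PowerSeries.X) ∧
      ∃ b : D →+* (Localization.AtPrime Q ⧸ maximalIdeal (Localization.AtPrime Q) ^ l),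
        IsUnit (b (algebraMap K⟦X⟧ D PowerSeries.X)) ∧
        b.comp ψ = (Ideal.Quotient.mk (maximalIdeal (Localization.AtPrime Q) ^ l)).comp
          (algebraMap B (Localization.AtPrime Q)) := by
  have hne : symb Q l ≠ ⊤ := fun e => ‹Q.IsPrime›.ne_top (top_le_iff.1 (e ▸ symb_le Q l hl))
  have : Nontrivial (B ⧸ symb Q l) := Ideal.Quotient.nontrivial_iff.2 hne
  have hloc : IsLocalRing (B ⧸ symb Q l) := IsLocalRing.of_surjective' (Ideal.Quotient.mk _) Ideal.Quotient.mk_surjective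
  have hcomp : IsAdicComplete (maximalIdeal (B ⧸ symb Q l)) (B ⧸ symb Q l) := isAdicComplete_quotient B (symb Q l)
  let instK : Algebra K (B ⧸ symb Q l) := ((Ideal.Quotient.mk (symb Q l)).comp j).toAlgebra
  have hK : Function.Surjective (algebraMap K (ResidueField (B ⧸ symb Q l))) := by
    intro y
    obtain ⟨y, rfl⟩ := residue_surjective y
    obtain ⟨b, rfl⟩ := Ideal.Quotient.mk_surjective y
    obtain ⟨a, ha⟩ := hj (residue B b)
    refine ⟨a, ?_⟩
    have h1 : j a - b ∈ maximalIdeal B := by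
      rw [← residue_eq_zero_iff, map_sub, sub_eq_zero]
      exact ha
    have h2 := mk_mem (symb Q l) h1
    rw [← residue_eq_zero_iff, map_sub, map_sub, sub_eq_zero] at h2
    exact h2
  obtain ⟨r, hr, hrQ⟩ : ∃ r ∈ maximalIdeal R, i r ∉ Q := by
    by_contra hcon
    push Not at hcon
    have h1 : maximalIdeal B ≤ Q := by
      rw [hi, Ideal.map_le_iff_le_comap]
      exact hcon
    exact hQ (le_antisymm (le_maximalIdeal ‹Q.IsPrime›.ne_top) h1)
  have hirm : ∀ r ∈ maximalIdeal R, i r ∈ maximalIdeal B := fun r hr => by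
    rw [hi]
    exact Ideal.mem_map_of_mem _ hr
  have hrad := maximalIdeal_le_radical Q hQ' l (i r) hrQ
  obtain ⟨φ, hφ1, hφ2, hφ3, hφ4⟩ := K639.PowD.exists_powerSeries (K := K) (D := B ⧸ symb Q l) hK
    (Ideal.Quotient.mk (symb Q l) (i r)) (mk_mem _ (hirm r hr)) hrad (fun d hd => by
      obtain ⟨d, rfl⟩ := Ideal.Quotient.mk_surjective d
      rw [← map_mul, Ideal.Quotient.eq_zero_iff_mem] at hd
      exact Ideal.Quotient.eq_zero_iff_mem.2 (mem_symb_of_mul Q l _ _ hrQ hd))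
  let instX : Algebra K⟦X⟧ (B ⧸ symb Q l) := φ.toAlgebra
  have hfin : Module.Finite K⟦X⟧ (B ⧸ symb Q l) := hφ3
  refine ⟨B ⧸ symb Q l, inferInstance, instX, hfin, hφ4, Ideal.Quotient.mk _, fun a => ?_, ?_, ⟨r, hr, hφ2.symm⟩,
    Ideal.Quotient.lift (symb Q l) ((Ideal.Quotient.mk (maximalIdeal (Localization.AtPrime Q) ^ l)).comp
          (algebraMap B (Localization.AtPrime Q))) (fun a ha => ha), ?_, ?_⟩
  · exact (RingHom.congr_fun hφ1 a).symm
  · obtain ⟨N, hN⟩ := Ideal.exists_pow_le_of_le_radical_of_fg hrad (IsNoetherian.noetherian _)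
    refine ⟨N, fun r' hr' => ?_⟩
    have h1 : Ideal.Quotient.mk (symb Q l) (i r') ∈ maximalIdeal (B ⧸ symb Q l) ^ N := by
      have h2 : (maximalIdeal R ^ N).map ((Ideal.Quotient.mk (symb Q l)).comp i) ≤ maximalIdeal (B ⧸ symb Q l) ^ N := by
        rw [Ideal.map_pow]
        refine Ideal.pow_right_mono ?_ N
        rw [Ideal.map_le_iff_le_comap]
        exact fun x hx => mk_mem _ (hirm x hx)
      exact h2 (Ideal.mem_map_of_mem _ hr')
    obtain ⟨d, hd⟩ := Ideal.mem_span_singleton'.1 (hN h1)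
    refine ⟨d, ?_⟩
    rw [← hd, mul_comm]
    congr 1
    exact hφ2.symm
  · have h1 : algebraMap K⟦X⟧ (B ⧸ symb Q l) PowerSeries.X = Ideal.Quotient.mk (symb Q l) (i r) := hφ2
    rw [h1, Ideal.Quotient.lift_mk, RingHom.comp_apply]
    have h2 : IsUnit (algebraMap B (Localization.AtPrime Q) (i r)) :=
      IsLocalization.map_units (Localization.AtPrime Q) (⟨i r, hrQ⟩ : Q.primeCompl)
    exact h2.map _
  · exact RingHom.ext fun x => rfl

end K512.ShpPrim
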