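import Groth.Agent.PicLoc.K445.T1g
import Groth.Agent.PicLoc.K361.FlatPure
import Groth.Agent.PicLoc.K247.ProdCompl
import Groth.Agent.PicLoc.K512.ShpLoc
import Groth.Agent.PicLoc.K512.ShpPrim
import Mathlib.RingTheory.LaurentSeries

/-!
# Sharpness is closed in families (job 552, node CL of `S12351`)
-/

set_option autoImplicit false
set_option linter.style.haveILetI false
universe u
open CategoryTheory CategoryTheory.Limits AlgebraicGeometry Opposite TensorProduct IsLocalRing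
open scoped PowerSeries LaurentSeries

namespace K512.ShpCL

open Groth.Agent.PicLoc.K25.PicGrpStr K730.Nil K257.RTw K512.ShpGeo K512.ShpAlg K730.NilPlan K512.ShpFam K512.ShpLoc
  K512.ShpPrim

variable {k : Type u} [Field k] {R : Type u} [CommRing R] [IsLocalRing R] [Algebra k R] [IsNoetherianRing R]

theorem tr_loc (𝓗 : PicLoc.HensFamily k R) (G' : PicLoc.RFam k R) (θ : 𝓗.G ⟶ G')
    (hG' : K257.Fam.IsCompl 𝓗 G' θ) {X : Scheme.{u}} (f : X ⟶ Spec (CommRingCat.of R)) [IsProper f]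
    {P₀ : CommAlgCat.{u} k} {S : Type u} (κ : S → CommAlgCat.{u} k) (e : ∀ s, P₀ ⟶ κ s)
    (he : ∀ a : P₀, (∀ s, (e s).hom a = 0) → a = 0) (c : PicLoc.PicSet (tw f (G'.obj P₀)))
    (hc : ∀ s, K728.RSharp.Shp f (G'.obj (κ s)) (pullHom (mp f (G'.map (e s))) c).1)
    {K : Type u} [Field K] [Algebra k K] (ηK : P₀ ⟶ CommAlgCat.of k K)
    (F : Type u) [Field F] [Algebra K⟦X⟧ F] [IsLocalization (Submonoid.powers (PowerSeries.X : K⟦X⟧)) F]
    {D : Type u} [CommRing D] [Algebra K⟦X⟧ D]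
    [Module.Finite K⟦X⟧ D] [Module.Free K⟦X⟧ D] (ψ : (G'.obj (CommAlgCat.of k K)).right →+* D)
    (hψK : ∀ a : K, ψ (((𝓗.η ≫ θ).app (CommAlgCat.of k K)).right.hom (1 ⊗ₜ a)) = algebraMap K⟦X⟧ D (PowerSeries.C a))
    (N : ℕ) (hψm : ∀ r ∈ maximalIdeal R ^ N, ∃ d : D,
      ψ ((G'.obj (CommAlgCat.of k K)).hom.hom r) = algebraMap K⟦X⟧ D PowerSeries.X * d)
    (hψX : ∃ r ∈ maximalIdeal R, ψ ((G'.obj (CommAlgCat.of k K)).hom.hom r) = algebraMap K⟦X⟧ D PowerSeries.X)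
    {T : Type u} [CommRing T] (b : D →+* T) (hb : IsUnit (b (algebraMap K⟦X⟧ D PowerSeries.X))) :
    Tr (B := (G'.obj (CommAlgCat.of k K)).right) (qr f (G'.obj (CommAlgCat.of k K)))
      (pullHom (mp f (G'.map ηK)) c) (b.comp ψ) := by
  obtain ⟨τ, hτ1, hτ2, hτ3⟩ := exists_tau 𝓗 G' θ hG' ψ hψK N hψm hψX
  let ρ : R →+* (F ⊗[K⟦X⟧] D) :=
    (Algebra.TensorProduct.includeRight : D →ₐ[K⟦X⟧] F ⊗[K⟦X⟧] D).toRingHom.comp
      (ψ.comp (G'.obj (CommAlgCat.of k K)).hom.hom)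
  have hρr : ∀ r, ρ r = (1 : F) ⊗ₜ[K⟦X⟧] (ψ ((G'.obj (CommAlgCat.of k K)).hom.hom r)) := fun r => rfl
  let χK : G'.obj (CommAlgCat.of k K) ⟶ U F ρ F :=
    Under.homMk (CommRingCat.ofHom
      ((Algebra.TensorProduct.includeLeftRingHom : (F ⊗[K⟦X⟧] D) →+* (F ⊗[K⟦X⟧] D) ⊗[F] F).comp
        ((Algebra.TensorProduct.includeRight : D →ₐ[K⟦X⟧] F ⊗[K⟦X⟧] D).toRingHom.comp ψ))) rfl
  have hχK : ∀ z, χK.right.hom z = ((1 : F) ⊗ₜ[K⟦X⟧] (ψ z)) ⊗ₜ[F] (1 : F) := fun z => rfl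
  clear_value χK
  clear_value ρ
  have h6 := (tr_qr_iff f χK _).2 (tr_F G' f κ e he c hc ηK ψ hψX τ hτ1 hτ2 hτ3 ρ hρr χK hχK)
  obtain ⟨g, hg⟩ := exists_lift_loc (F := F) b hb
  have h7 := Tr.comp h6 (g.comp (Algebra.TensorProduct.rid F F (F ⊗[K⟦X⟧] D)).toRingHom)
  have h8 : (g.comp (Algebra.TensorProduct.rid F F (F ⊗[K⟦X⟧] D)).toRingHom).comp χK.right.hom = b.comp ψ := by
    refine RingHom.ext fun z => ?_
    change g (Algebra.TensorProduct.rid F F (F ⊗[K⟦X⟧] D) (χK.right.hom z)) = b (ψ z)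
    rw [hχK, Algebra.TensorProduct.rid_tmul, one_smul, hg]
  rw [h8] at h7
  exact h7

/-- CL -/
theorem shp_of_family (hres : Function.Bijective (algebraMap k (ResidueField R)))
    (𝓗 : PicLoc.HensFamily k R) (G' : PicLoc.RFam k R) (θ : 𝓗.G ⟶ G') (hG' : K257.Fam.IsCompl 𝓗 G' θ)
    {X : Scheme.{u}} (f : X ⟶ Spec (CommRingCat.of R)) [IsProper f] {P₀ : CommAlgCat.{u} k} {S : Type u}
    (κ : S → CommAlgCat.{u} k) (e : ∀ s, P₀ ⟶ κ s) (he : ∀ a : P₀, (∀ s, (e s).hom a = 0) → a = 0)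
    (c : PicLoc.PicSet (tw f (G'.obj P₀)))
    (hc : ∀ s, K728.RSharp.Shp f (G'.obj (κ s)) (pullHom (mp f (G'.map (e s))) c).1)
    (K : Type u) [Field K] [Algebra k K] (ηK : P₀ ⟶ CommAlgCat.of k K) :
    K728.RSharp.Shp f (G'.obj (CommAlgCat.of k K)) (pullHom (mp f (G'.map ηK)) c).1 := by
  obtain ⟨i1, i2, hmax, i3, hsurj⟩ := K247.ProdCompl.field_compl hres 𝓗 G' θ hG' K
  rw [K861.ShpSemi.shp_iff_trOff f _ (K361.FlatPure.flat_compl hG' _), ← hmax]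
  have hpr : IsProper (qr f (G'.obj (CommAlgCat.of k K))) :=
    MorphismProperty.of_isPullback (isPullback_tw f (G'.obj (CommAlgCat.of k K))) inferInstance
  refine K445.T1g.trOff_of_coheight_one _ _ fun Q hQ hQm hQ' => ?_
  refine K445.T1g.tr_prime_of_forall _ _ Q ?_
  have key : ∀ l : ℕ, l ≠ 0 → Tr (B := (G'.obj (CommAlgCat.of k K)).right) (qr f (G'.obj (CommAlgCat.of k K)))
      (pullHom (mp f (G'.map ηK)) c) ((Ideal.Quotient.mk (maximalIdeal (Localization.AtPrime Q) ^ l)).comp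
      (algebraMap (G'.obj (CommAlgCat.of k K)).right (Localization.AtPrime Q))) := by
    intro l hl
    let j : K →+* (G'.obj (CommAlgCat.of k K)).right :=
      ((𝓗.η ≫ θ).app (CommAlgCat.of k K)).right.hom.comp
        (Algebra.TensorProduct.includeRight : K →ₐ[k] R ⊗[k] K).toRingHom
    obtain ⟨D, _, _, _, _, ψ, h1, ⟨N, h2⟩, h3, b, hb, hbψ⟩ := exists_D (G'.obj (CommAlgCat.of k K)).hom.hom hmax j hsurj Q
      hQm hQ' l hl
    rw [← hbψ]
    exact tr_loc 𝓗 G' θ hG' f κ e he c hc ηK K⸨X⸩ ψ h1 N h2 h3 b hb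
  intro l
  rcases Nat.eq_zero_or_pos l with rfl | hl
  · have h1 := Tr.comp (key 1 one_ne_zero) (Ideal.Quotient.factor (S := maximalIdeal (Localization.AtPrime Q) ^ 1)
      (T := maximalIdeal (Localization.AtPrime Q) ^ 0) (Ideal.pow_le_pow_right (Nat.zero_le 1)))
    exact h1
  · exact key l hl.ne'

end K512.ShpCL
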